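import Groth.Agent.Lib.EtDer.NormalConst
import Groth.Agent.Lib.EtDer.Henselian
import Groth.Agent.Lib.EtSite.PushStalk
import Groth.Agent.Lib.EtSite.PushUI
import Groth.Agent.Lib.EtSite.Immersion
import Groth.Agent.Lib.ConstrCpt.Descent
import Groth.Agent.Lib.GalCd.GmMax
import Groth.Agent.Lib.LocConst.ConstGerm
import Groth.Agent.S0141
import Mathlib.RingTheory.DedekindDomain.IntegralClosure
import Mathlib.RingTheory.KrullDimension.Basic

/-!
# Embedding into a direct image of a constant sheaf plus a sheaf on finitely many points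
-/

set_option autoImplicit false
set_option backward.isDefEq.respectTransparency false
set_option backward.isDefEq.respectTransparency.types false
set_option linter.style.haveILetI false

universe u

open CategoryTheory CategoryTheory.Limits AlgebraicGeometry Opposite
open GrothLib.EtSite

noncomputable section

namespace GrothLib.EmbedPush18

/-- No proper specializations between two non-generic, non-closed primes in dimension two. -/
theorem eq_of_le_of_dim_two {R S : Type u} [CommRing R] [CommRing S] [IsDomain S] [Algebra R S]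
    [Algebra.IsIntegral R S] (hdim : ringKrullDim R ≤ 2) {a b : PrimeSpectrum S} (hab : a ≤ b)
    (ha : a.asIdeal ≠ ⊥) (hb : ¬ b.asIdeal.IsMaximal) : a = b := by
  by_contra hne
  obtain ⟨m, hm, hbm⟩ := Ideal.exists_le_maximal b.asIdeal b.2.ne_top
  let o : PrimeSpectrum S := ⟨⊥, Ideal.isPrime_bot⟩
  let c : PrimeSpectrum S := ⟨m, hm.isPrime⟩
  have h1 : o < a := lt_of_le_of_ne bot_le fun e => ha (congrArg PrimeSpectrum.asIdeal e).symm
  have h2 : a < b := lt_of_le_of_ne hab hne
  have h3 : b < c := lt_of_le_of_ne hbm fun e => hb (e ▸ hm)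
  have step : ∀ {p q : PrimeSpectrum S}, p < q →
      PrimeSpectrum.comap (algebraMap R S) p < PrimeSpectrum.comap (algebraMap R S) q := fun {p q} h => by
    haveI := p.2
    exact Ideal.IsIntegral.comap_lt_comap h
  let l : LTSeries (PrimeSpectrum R) :=
    (((RelSeries.singleton _ (PrimeSpectrum.comap (algebraMap R S) o)).snoc _ (step h1)).snoc _
      (by rw [RelSeries.last_snoc]; exact step h2)).snoc _ (by rw [RelSeries.last_snoc]; exact step h3)
  have h : (3 : WithBot ℕ∞) ≤ 2 := le_trans (Order.LTSeries.length_le_krullDim l) hdim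
  exact absurd h (by decide)

/-- Geometric points over a closed subscheme factor through it. -/
theorem exists_lift_closed {Z X : Scheme.{u}} (i : Z ⟶ X) [IsClosedImmersion i] {Ω : Type u} [Field Ω]
    (ξ : Spec (CommRingCat.of Ω) ⟶ X) (h : ξ.base default ∈ Set.range i.base) : ∃ ζ, ζ ≫ i = ξ := by
  obtain ⟨z, hz⟩ := h
  haveI : Surjective (pullback.snd i ξ) := ⟨fun t => by
    obtain ⟨p, -, hp⟩ := Scheme.Pullback.exists_preimage_pullback (f := i) (g := ξ) z t
      (hz.trans (congrArg ξ.base (Unique.default_eq t)))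
    exact ⟨p, hp⟩⟩
  haveI : IsClosedImmersion (pullback.snd i ξ) := inferInstance
  haveI : IsIso (pullback.snd i ξ) := isIso_of_isClosedImmersion_of_surjective _
  exact ⟨inv (pullback.snd i ξ) ≫ pullback.fst i ξ, by rw [Category.assoc, pullback.condition, IsIso.inv_hom_id_assoc]⟩

variable {U Un : Scheme.{u}} (π : Un ⟶ U)

/-- The embedding. -/
theorem exists_mono [AlgebraicGeometry.IsNoetherian U] [IsIntegralHom π] [Surjective π]
    [IsIntegral Un] (hnorm : ∀ y : Un, IsIntegrallyClosed (Un.presheaf.stalk y))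
    (V : U.Opens) (hV : Nonempty ↥(↑(π ⁻¹ᵁ V) : Scheme.{u}))
    [QuasiCompact (π ⁻¹ᵁ V).ι] (hfin : ((V : Set U)ᶜ).Finite)
    (F : EtCoh.Ab U) (hF : EtPBC.IsConstructible F) (m : ℕ) (hm : 0 < m) (hmF : EtCoh.KilledBy m F)
    (M : Type) [AddCommGroup M]
    (e : (EtCoh.pull (π ⁻¹ᵁ V).ι).obj ((EtCoh.pull π).obj F) ≅ EtCoh.const (↑(π ⁻¹ᵁ V) : Scheme.{u}) M) :
    (∀ x : M, m • x = 0) ∧
      ∃ (Ff : EtCoh.Ab U), EtPBC.IsConstructible Ff ∧ (EtPBC.supp Ff).Finite ∧
        ∃ ι : F ⟶ (EtCoh.push π).obj (EtCoh.const Un M) ⊞ Ff, Mono ι := by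
  let W := π ⁻¹ᵁ V
  let j := W.ι
  haveI := GrothLib.EtSite.pull_preservesFiniteLimits j
  haveI := GrothLib.EtSite.pull_preservesFiniteLimits π
  refine ⟨fun x => ?_, ?_⟩
  · -- the value group is killed by `m`
    obtain ⟨w⟩ := hV
    let ζ := gpt w
    let A := AddCommGrpCat.of (ULift.{u + 1} M)
    have hb := GrothLib.LocConst.bijective_germ_const ζ A
    let ψ := (EtCoh.stalk ζ).map e.inv ≫ (pullStalkIso ζ j).hom.app _ ≫ (pullStalkIso (ζ ≫ j) π).hom.app F
    have hψ : Function.Bijective ψ := (ConcreteCategory.isIso_iff_bijective ψ).1 inferInstance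
    have hs : ∀ p : (EtCoh.stalk ((ζ ≫ j) ≫ π)).obj F, m • p = 0 := fun p => by
      obtain ⟨S, t, s, rfl⟩ := GrothLib.EtSite.exists_germ _ F p
      rw [← map_nsmul, hmF S s, map_zero]
    have h0 := hs (ψ (((EtCore.constAdj _).unit.app A ≫ germ ζ _ (GrothLib.LocConst.topFib ζ)) ⟨x⟩))
    rw [← map_nsmul, ← map_nsmul] at h0
    have h1 := hb.1 ((hψ.1 (h0.trans (map_zero ψ.hom).symm)).trans (map_zero _).symm)
    exact congrArg ULift.down h1
  -- the map to the constant sheaf
  haveI : IsIso ((EtCoh.pullPushAdj j).unit.app (EtCoh.const Un M)) :=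
    GrothLib.EtDer.isIso_unit_const (AddCommGrpCat.of (ULift.{u + 1} M)) (f := j) (𝟙 _)
      (GrothLib.EtDer.isNormalScheme_of_isIntegral hnorm) (fun p hp => by
        rw [Category.id_comp]
        refine GrothLib.EtDer.mem_range_of_minimal j ?_ p hp
        obtain ⟨w⟩ := hV
        rw [Scheme.Opens.range_ι]
        exact (genericPoint_specializes w.1).mem_open W.2 w.2)
  let G := (EtCoh.pull π).obj F
  let α : G ⟶ EtCoh.const Un M :=
    (EtCoh.pullPushAdj j).unit.app G ≫ (EtCoh.push j).map (e.hom ≫ (EtCore.pullConst j M).inv) ≫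
      inv ((EtCoh.pullPushAdj j).unit.app (EtCoh.const Un M))
  have hα : IsIso ((EtCoh.pull j).map α) := by
    haveI : ∀ H : EtCoh.Ab Un, IsIso ((EtCoh.pull j).map ((EtCoh.pullPushAdj j).unit.app H)) := fun H => by
      haveI := GrothLib.EtSite.isIso_counit j ((EtCoh.pull j).obj H)
      have h := (EtCoh.pullPushAdj j).left_triangle_components H
      haveI : IsIso ((EtCoh.pull j).map ((EtCoh.pullPushAdj j).unit.app H) ≫
          (EtCoh.pullPushAdj j).counit.app ((EtCoh.pull j).obj H)) := by rw [h]; exact IsIso.id _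
      exact IsIso.of_isIso_comp_right _ ((EtCoh.pullPushAdj j).counit.app ((EtCoh.pull j).obj H))
    simp only [α, Functor.map_comp]
    infer_instance
  let φ : F ⟶ (EtCoh.push π).obj (EtCoh.const Un M) :=
    (EtCoh.pullPushAdj π).homEquiv _ _ α
  -- the finitely supported part
  let Z : TopologicalSpace.Closeds U := ⟨(V : Set U)ᶜ, V.2.isClosed_compl⟩
  let I := Scheme.IdealSheafData.vanishingIdeal Z
  let i := I.subschemeι
  have hi : Set.range i.base = (V : Set U)ᶜ := by
    rw [Scheme.IdealSheafData.range_subschemeι, Scheme.IdealSheafData.coe_support_vanishingIdeal]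
    rfl
  let u := (EtCoh.pullPushAdj i).unit.app F
  let Ff := (EtCoh.push i).obj ((EtCoh.pull i).obj F)
  haveI hu : ∀ (Ω : Type u) [Field Ω] [IsSepClosed Ω] (ξ : Spec (CommRingCat.of Ω) ⟶ I.subscheme),
      IsIso ((EtCoh.stalk (ξ ≫ i)).map u) := fun Ω _ _ ξ => by
    haveI := GrothLib.EtSite.isIso_counit i ((EtCoh.pull i).obj F)
    have h := (EtCoh.pullPushAdj i).left_triangle_components F
    haveI : IsIso ((EtCoh.pull i).map u ≫ (EtCoh.pullPushAdj i).counit.app ((EtCoh.pull i).obj F)) := by
      rw [h]; exact IsIso.id _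
    haveI : IsIso ((EtCoh.pull i).map u) :=
      IsIso.of_isIso_comp_right _ ((EtCoh.pullPushAdj i).counit.app ((EtCoh.pull i).obj F))
    exact (NatIso.isIso_map_iff (pullStalkIso ξ i) u).1 (by rw [Functor.comp_map]; infer_instance)
  haveI : Epi u := by
    haveI : IsZero (cokernel u) := by
      rw [IsZero.iff_id_eq_zero]
      refine GrothLib.ExtZero.zero_of_stalks _ fun Ω _ _ η => ?_
      refine IsZero.eq_of_src ?_ _ _
      refine IsZero.of_epi_eq_zero ((EtCoh.stalk η).map (cokernel.π u)) ?_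
      by_cases hη : η.base default ∈ Set.range i.base
      · obtain ⟨ξ, rfl⟩ := exists_lift_closed i η hη
        haveI := hu Ω ξ
        rw [← cancel_epi ((EtCoh.stalk (ξ ≫ i)).map u), ← Functor.map_comp, cokernel.condition, comp_zero,
          Functor.map_zero]
      · exact (stalk_push_isZero_of_integral i _ η hη).eq_of_src _ _
    exact Preadditive.epi_of_isZero_cokernel u this
  refine ⟨Ff, Groth.Agent.S0141.result U u m hm hmF hF, hfin.subset (fun x hx => ?_),
    biprod.lift φ u, ?_⟩
  · exact hi.le (GrothLib.EtSite.supp_push_subset i _ hx)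
  have hK : IsZero (kernel (biprod.lift φ u)) := by
    let κ := kernel.ι (biprod.lift φ u)
    have hκφ : κ ≫ φ = 0 := by
      exact (congrArg (κ ≫ ·) (biprod.lift_fst φ u).symm).trans
        ((kernel.condition_assoc (biprod.lift φ u) biprod.fst).trans zero_comp)
    have hκu : κ ≫ u = 0 := by
      exact (congrArg (κ ≫ ·) (biprod.lift_snd φ u).symm).trans
        ((kernel.condition_assoc (biprod.lift φ u) biprod.snd).trans zero_comp)
    rw [IsZero.iff_id_eq_zero]
    refine GrothLib.ExtZero.zero_of_stalks _ fun Ω _ _ η => ?_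
    refine IsZero.eq_of_src ?_ _ _
    by_cases hη : η.base default ∈ Set.range i.base
    · obtain ⟨ξ, rfl⟩ := exists_lift_closed i η hη
      haveI := hu Ω ξ
      haveI : Mono ((EtCoh.stalk (ξ ≫ i)).map κ) := inferInstance
      refine IsZero.of_mono_eq_zero ((EtCoh.stalk (ξ ≫ i)).map κ) ?_
      rw [← cancel_mono ((EtCoh.stalk (ξ ≫ i)).map u), ← Functor.map_comp, hκu, zero_comp, Functor.map_zero]
    · have hηV : η.base default ∈ V := by
        rw [hi] at hη
        exact Set.notMem_compl_iff.1 hη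
      obtain ⟨Ω₀, _, _, ζ, hζ⟩ := GrothLib.ConstrCpt.exists_point_over π η
      refine GrothLib.ConstrCpt.isZero_stalk_of_same η (ζ ≫ π) hζ ?_
      have hW : ζ.base default ∈ Set.range j.base := by
        rw [Scheme.Opens.range_ι]
        change π.base (ζ.base default) ∈ V
        rw [← Scheme.Hom.comp_apply, hζ]
        exact hηV
      obtain ⟨ζ', hζ'⟩ := GrothLib.ExtZero.exists_lift_of_mem j ζ hW
      haveI : IsIso ((EtCoh.stalk ζ).map α) := by
        rw [← hζ']
        exact (NatIso.isIso_map_iff (pullStalkIso ζ' j) α).1 (by rw [Functor.comp_map]; infer_instance)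
      haveI : Mono ((EtCoh.stalk ζ).map ((EtCoh.pull π).map φ)) := by
        have hφ : (EtCoh.pull π).map φ ≫ (EtCoh.pullPushAdj π).counit.app _ = α := by
          have h := (EtCoh.pullPushAdj π).homEquiv_counit F _ φ
          rw [Equiv.symm_apply_apply] at h
          exact h.symm
        haveI : Mono ((EtCoh.stalk ζ).map ((EtCoh.pull π).map φ) ≫
            (EtCoh.stalk ζ).map ((EtCoh.pullPushAdj π).counit.app _)) := by
          rw [← Functor.map_comp, hφ]
          infer_instance
        exact mono_of_mono _ ((EtCoh.stalk ζ).map ((EtCoh.pullPushAdj π).counit.app _))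
      have hmono : Mono ((EtCoh.stalk (ζ ≫ π)).map φ) := by
        have h : (EtCoh.stalk (ζ ≫ π)).map φ = (pullStalkIso ζ π).inv.app _ ≫
            (EtCoh.stalk ζ).map ((EtCoh.pull π).map φ) ≫ (pullStalkIso ζ π).hom.app _ := by
          rw [show (EtCoh.stalk ζ).map ((EtCoh.pull π).map φ) ≫ (pullStalkIso ζ π).hom.app _ =
            (pullStalkIso ζ π).hom.app _ ≫ (EtCoh.stalk (ζ ≫ π)).map φ from (pullStalkIso ζ π).hom.naturality φ]
          exact (Iso.inv_hom_id_app_assoc (pullStalkIso ζ π) _ _).symm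
        rw [h]
        infer_instance
      refine IsZero.of_mono_eq_zero ((EtCoh.stalk (ζ ≫ π)).map κ) ?_
      rw [← cancel_mono ((EtCoh.stalk (ζ ≫ π)).map φ), ← Functor.map_comp, hκφ, zero_comp, Functor.map_zero]
  exact Preadditive.mono_of_kernel_zero (hK.eq_of_src _ _)

end GrothLib.EmbedPush18
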